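import Cfsg.Agent.S4Amalgam.Ident

/-!
A maximal subgroup `P` of a simple group with dihedral quotient of order `2q` modulo `O₂` and a
Sylow 2-subgroup normalized outside `P` has `q = 3`, and gives an amalgam with active centre.
-/

set_option autoImplicit false
set_option linter.unusedSectionVars false
set_option linter.style.haveILetI false

open Subgroup Cfsg

namespace Cfsg.Agent.S4Amalgam.SimsLocal

variable {H : Type*} [Group H]

/-- The setting. -/
structure Setting (H : Type*) [Group H] where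
  P : Subgroup H
  S : Subgroup H
  x : H
  q : ℕ
  hq : q.Prime
  hPx : ∀ K : Subgroup H, P ≤ K → x ∈ K → K = ⊤
  hx : x ∈ normalizer (S : Set H)
  hchar : P ⊓ centralizer (pCoreOf 2 P : Set H) ≤ pCoreOf 2 P
  hSP : S ≤ P
  hS2 : IsPGroup 2 S
  hS : ¬ 2 ∣ S.relIndex P
  hQP : (pCoreOf 2 P).relIndex P = 2 * q
  hq2 : q ≠ 2
  hact : ¬ P ≤ centralizer (omegaOne 2 (S ⊓ centralizer (S : Set H)) : Set H)
  hnc : ∀ V : Subgroup H, V ≠ ⊥ → ∃ g : H, ¬ V ≤ centralizer (cj g V : Set H)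
  rot : ∃ r ∈ P, r ∉ pCoreOf 2 P ∧ r ^ q ∈ pCoreOf 2 P ∧ ∀ i, 0 < i → i < q → r ^ i ∉ pCoreOf 2 P

namespace Setting

variable [Finite H] (A : Setting H)

/-- `O₂(P)`. -/
def Q : Subgroup H := pCoreOf 2 A.P

/-- `Ω₁(Z(S))`. -/
def Z : Subgroup H := omegaOne 2 (A.S ⊓ centralizer (A.S : Set H))

/-- `⟨Z^P⟩`. -/
def V : Subgroup H := ⨆ p : A.P, cj (p : H) A.Z

theorem Q_le_P : A.Q ≤ A.P := Subgroup.map_subtype_le _

theorem Q_isPGroup : IsPGroup 2 A.Q := by
  haveI : Fact (Nat.Prime 2) := ⟨Nat.prime_two⟩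
  obtain ⟨S⟩ : Nonempty (Sylow 2 A.P) := inferInstance
  refine IsPGroup.map ?_ A.P.subtype
  refine S.isPGroup'.to_le (sSup_le fun N hN => ?_)
  haveI := hN.1
  exact hN.2.le_sylow_of_normal S

theorem P_le_normalizer_Q : A.P ≤ normalizer (A.Q : Set H) := by
  refine (Subgroup.normal_subgroupOf_iff_le_normalizer A.Q_le_P).1 ?_
  rw [show A.Q.subgroupOf A.P = pCore 2 A.P from
    Subgroup.comap_map_eq_self_of_injective A.P.subtype_injective _]
  infer_instance

theorem le_Q {N : Subgroup H} (hle : N ≤ A.P) (hn : A.P ≤ normalizer (N : Set H))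
    (hp : IsPGroup 2 N) : N ≤ A.Q := fun x hx => by
  have h : N.subgroupOf A.P ≤ pCore 2 A.P := le_sSup
    ⟨(Subgroup.normal_subgroupOf_iff_le_normalizer hle).2 hn,
      hp.of_equiv (Subgroup.subgroupOfEquivOfLe hle).symm⟩
  exact Subgroup.mem_map.2 ⟨⟨x, hle hx⟩, h hx, rfl⟩

theorem Q_le_S : A.Q ≤ A.S := by
  haveI : Fact (Nat.Prime 2) := ⟨Nat.prime_two⟩
  haveI : (A.Q.subgroupOf A.P).Normal :=
    (Subgroup.normal_subgroupOf_iff_le_normalizer A.Q_le_P).2 A.P_le_normalizer_Q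
  let S' : Sylow 2 A.P :=
    IsPGroup.toSylow (A.hS2.of_equiv (Subgroup.subgroupOfEquivOfLe A.hSP).symm) A.hS
  have h := IsPGroup.le_sylow_of_normal (N := A.Q.subgroupOf A.P)
    (A.Q_isPGroup.of_equiv (Subgroup.subgroupOfEquivOfLe A.Q_le_P).symm) S'
  exact fun x hx => h (x := ⟨x, A.Q_le_P hx⟩) hx

theorem relIndex_S : A.S.relIndex A.P = A.q ∧ A.Q.relIndex A.S = 2 := by
  have h := A.hQP
  rw [show pCoreOf 2 A.P = A.Q from rfl,
    ← Subgroup.relIndex_mul_relIndex _ _ _ A.Q_le_S A.hSP] at h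
  haveI : Fact (Nat.Prime 2) := ⟨Nat.prime_two⟩
  obtain ⟨k, hk⟩ := A.hS2.index (A.Q.subgroupOf A.S)
  change A.Q.relIndex A.S = 2 ^ k at hk
  rw [hk] at h
  have hodd : ¬ 2 ∣ A.q := fun h2 => A.hq2 ((Nat.prime_dvd_prime_iff_eq Nat.prime_two A.hq).1 h2).symm
  match k with
  | 0 =>
    exfalso
    exact A.hS ⟨A.q, by simpa using h⟩
  | 1 => exact ⟨by omega, by rw [hk]; rfl⟩
  | k + 2 =>
    exfalso
    exact hodd ⟨2 ^ k * A.S.relIndex A.P, by
      have : 2 * A.q = 2 * (2 * (2 ^ k * A.S.relIndex A.P)) := by rw [← h]; ring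
      omega⟩

theorem eq_of_gt {M : Subgroup H} {K : Subgroup H} (hM : M.relIndex A.P = A.q) (h : M ≤ K)
    (hK : K ≤ A.P) (hne : K ≠ M) : K = A.P := by
  have hmul := Subgroup.relIndex_mul_relIndex _ _ _ h hK
  rw [hM] at hmul
  rcases (Nat.dvd_prime A.hq).1 (Dvd.intro_left _ hmul) with h1 | h1
  · exact le_antisymm hK (Subgroup.relIndex_eq_one.1 h1)
  · rw [h1] at hmul
    exact absurd (le_antisymm (Subgroup.relIndex_eq_one.1
      (Nat.eq_of_mul_eq_mul_right A.hq.pos (by rw [hmul, one_mul]))) h) hne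

theorem Z_le : A.Z ≤ A.S ⊓ centralizer (A.S : Set H) :=
  (Subgroup.closure_le _).2 fun _ hx => hx.1

theorem Z_le_Q : A.Z ≤ A.Q := fun _ hz =>
  A.hchar ⟨A.hSP (A.Z_le hz).1,
    Subgroup.centralizer_le (SetLike.coe_subset_coe.2 A.Q_le_S) (A.Z_le hz).2⟩

theorem Z_le_V : A.Z ≤ A.V := by
  have := le_iSup (fun p : A.P => cj (p : H) A.Z) 1
  rwa [show ((1 : A.P) : H) = 1 from rfl, cj_one] at this

theorem V_ne_bot : A.V ≠ ⊥ := fun h => A.hact fun p _ => by
  have : A.Z = ⊥ := eq_bot_iff.2 (A.Z_le_V.trans h.le)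
  change p ∈ centralizer (A.Z : Set H)
  rw [this]
  simp [mem_centralizer_iff]

theorem cj_Q {p : H} (hp : p ∈ A.P) : cj p A.Q = A.Q :=
  cj_eq_of_mem_normalizer (A.P_le_normalizer_Q hp)

theorem V_le_Q : A.V ≤ A.Q := iSup_le fun p => by
  rw [← A.cj_Q p.2]; exact cj_mono _ A.Z_le_Q

theorem Q_le_centralizer_V : A.Q ≤ centralizer (A.V : Set H) := by
  refine le_centralizer_comm (iSup_le fun p => ?_)
  rw [← A.cj_Q p.2, ← cj_centralizer]
  exact cj_mono _ fun z hz => Subgroup.centralizer_le (SetLike.coe_subset_coe.2 A.Q_le_S)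
    (A.Z_le hz).2

theorem sq_V {v : H} (hv : v ∈ A.V) : v ^ 2 = 1 := by
  have hc : A.V ≤ centralizer (A.V : Set H) := A.V_le_Q.trans A.Q_le_centralizer_V
  have hV : A.V = closure (⋃ p : A.P, (cj (p : H) A.Z : Set H)) := by
    rw [Subgroup.closure_iUnion]; simp [V]
  refine sq_eq_one_of_closure (S := ⋃ p : A.P, (cj (p : H) A.Z : Set H)) ?_ ?_ v (hV ▸ hv)
  · rw [← hV]; exact hc
  · intro y hy
    obtain ⟨p, hp⟩ := Set.mem_iUnion.1 hy
    have hcl : A.S ⊓ centralizer (A.S : Set H) ≤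
        centralizer ((A.S ⊓ centralizer (A.S : Set H) : Subgroup H) : Set H) :=
      fun a ha => Subgroup.centralizer_le (fun b hb => (hb : b ∈ A.S ⊓ _).1) ha.2
    have h1 : ((p : H)⁻¹ * y * p) ^ 2 = 1 :=
      sq_eq_one_of_closure (fun a ha => Subgroup.centralizer_le (fun b hb => A.Z_le hb)
        (hcl (A.Z_le ha))) (fun a ha => ha.2) _ (mem_cj.1 hp)
    calc y ^ 2 = (p : H) * ((p : H)⁻¹ * y * p) ^ 2 * (p : H)⁻¹ := by rw [pow_two, pow_two]; group
      _ = 1 := by rw [h1]; group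

theorem cj_V {p : H} (hp : p ∈ A.P) : cj p A.V = A.V := by
  refine cj_eq_of_mem_normalizer
    (le_normalizer_of_cj_le (K := A.P) (fun g hg => cj_le_iff.2 (iSup_le fun r => ?_)) hp)
  rw [le_cj_iff, inv_inv, ← cj_mul]
  exact le_iSup (fun p : A.P => cj (p : H) A.Z) ⟨g * r, mul_mem hg r.2⟩

theorem centralizer_V : A.P ⊓ centralizer (A.V : Set H) = A.Q := by
  refine le_antisymm ?_ (le_inf A.Q_le_P A.Q_le_centralizer_V)
  set N := A.P ⊓ centralizer (A.V : Set H) with hN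
  have hn : A.P ≤ normalizer (N : Set H) :=
    le_normalizer_inf le_normalizer fun p hp =>
      normalizer_le_normalizer_centralizer _ (mem_normalizer_of_cj_eq (A.cj_V hp))
  by_cases hle : N ≤ A.S
  · exact A.le_Q inf_le_left hn (A.hS2.to_le hle)
  · refine (A.hact ?_).elim
    have h1 : A.S ⊔ N = A.P := A.eq_of_gt A.relIndex_S.1 le_sup_left (sup_le A.hSP inf_le_left)
      fun e => hle (le_sup_right.trans e.le)
    rw [← h1]
    exact sup_le (le_centralizer_comm (A.Z_le.trans inf_le_right))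
      (inf_le_right.trans (Subgroup.centralizer_le (SetLike.coe_subset_coe.2 A.Z_le_V)))

/-- Elements reachable in `n` steps. -/
def D : ℕ → Set H
  | 0 => A.P
  | n + 1 => {g | ∃ h ∈ D n, ∃ y, (y = A.x ∨ y = A.x⁻¹) ∧ ∃ a ∈ A.P, g = h * y * a}

theorem mul_left_mem : ∀ (n : ℕ) (p g : H), p ∈ A.P → g ∈ A.D n → p * g ∈ A.D n
  | 0, p, g, hp, hg => mul_mem hp hg
  | n + 1, p, g, hp, hg => by
    obtain ⟨h, hh, y, hy, a, ha, rfl⟩ := hg
    exact ⟨p * h, mul_left_mem n p h hp hh, y, hy, a, ha, by group⟩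

theorem mul_mem_D : ∀ (n m : ℕ) (g h : H), g ∈ A.D m → h ∈ A.D n → g * h ∈ A.D (m + n)
  | 0, m, g, h, hg, hh => by
    rcases m with - | m
    · exact mul_mem hg hh
    · obtain ⟨k, hk, y, hy, a, ha, rfl⟩ := hg
      exact ⟨k, hk, y, hy, a * h, mul_mem ha hh, by group⟩
  | n + 1, m, g, h, hg, hh => by
    obtain ⟨k, hk, y, hy, a, ha, rfl⟩ := hh
    exact ⟨g * k, mul_mem_D n m g k hg hk, y, hy, a, ha, by group⟩

theorem step_mem {y : H} (hy : y = A.x ∨ y = A.x⁻¹) : y ∈ A.D 1 :=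
  ⟨1, A.P.one_mem, y, hy, 1, A.P.one_mem, by group⟩

theorem inv_mem_D : ∀ (n : ℕ) (g : H), g ∈ A.D n → g⁻¹ ∈ A.D n
  | 0, g, hg => A.P.inv_mem hg
  | n + 1, g, hg => by
    obtain ⟨h, hh, y, hy, a, ha, rfl⟩ := hg
    have h1 : y⁻¹ ∈ A.D 1 := A.step_mem (by rcases hy with rfl | rfl <;> simp)
    have h2 := A.mul_mem_D n 1 _ _ (A.mul_left_mem 1 a⁻¹ _ (inv_mem ha) h1) (inv_mem_D n h hh)
    rw [add_comm] at h2
    rwa [show (h * y * a)⁻¹ = a⁻¹ * y⁻¹ * h⁻¹ by group]

theorem exists_mem_D (g : H) : ∃ n, g ∈ A.D n := by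
  let K : Subgroup H :=
    { carrier := {g | ∃ n, g ∈ A.D n}
      one_mem' := ⟨0, A.P.one_mem⟩
      mul_mem' := fun {a b} ⟨m, hm⟩ ⟨n, hn⟩ => ⟨m + n, A.mul_mem_D n m a b hm hn⟩
      inv_mem' := fun {a} ⟨m, hm⟩ => ⟨m, A.inv_mem_D m a hm⟩ }
  have : K = ⊤ := A.hPx K (fun p hp => ⟨0, hp⟩) ⟨1, A.step_mem (Or.inl rfl)⟩
  exact (this.ge (mem_top g) : g ∈ K)

theorem inside : ∀ (k : ℕ),
    (∀ j < k, ∀ g ∈ A.D j, A.V ≤ centralizer (cj g A.V : Set H)) →
    ∀ g ∈ A.D k, A.V ≤ cj g A.P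
  | 0, _, g, hg => by rw [cj_eq_of_mem hg]; exact A.V_le_Q.trans A.Q_le_P
  | k + 1, hmin, g, hg => by
    obtain ⟨h, hh, y, hy, a, ha, rfl⟩ := hg
    have h1 := inside k (fun j hj => hmin j (by omega)) h hh
    have h2 : A.V ≤ cj h A.Q := by
      rw [← A.centralizer_V, cj_inf, cj_centralizer]
      exact le_inf h1 (hmin k (by omega) h hh)
    rw [cj_mul _ a, cj_eq_of_mem ha, cj_mul]
    refine h2.trans (cj_mono h (A.Q_le_S.trans ?_))
    have hyn : y ∈ normalizer (A.S : Set H) := by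
      rcases hy with rfl | rfl
      · exact A.hx
      · exact inv_mem A.hx
    conv_lhs => rw [← cj_eq_of_mem_normalizer hyn]
    exact cj_mono y A.hSP

theorem exists_crit : ∃ g, A.V ≤ cj g A.P ∧ cj g A.V ≤ A.P ∧
    ¬ A.V ≤ centralizer (cj g A.V : Set H) := by
  classical
  obtain ⟨g₀, hg₀⟩ := A.hnc _ A.V_ne_bot
  obtain ⟨n₀, hn₀⟩ := A.exists_mem_D g₀
  have hex : ∃ n g, g ∈ A.D n ∧ ¬ A.V ≤ centralizer (cj g A.V : Set H) := ⟨n₀, g₀, hn₀, hg₀⟩
  obtain ⟨g, hg, hgc⟩ := Nat.find_spec hex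
  have hmin : ∀ j < Nat.find hex, ∀ g ∈ A.D j, A.V ≤ centralizer (cj g A.V : Set H) := by
    intro j hj g hg'
    by_contra hc
    exact Nat.find_min hex hj ⟨g, hg', hc⟩
  exact ⟨g, A.inside _ hmin g hg,
    cj_le_iff.2 (A.inside _ hmin _ (A.inv_mem_D _ g hg)), hgc⟩

theorem relIndex_le_two {W : Subgroup H} (hW : W ≤ A.P) (hp : IsPGroup 2 W) :
    A.Q.relIndex W ≤ 2 ∧ A.Q.relIndex W ≠ 0 := by
  haveI : Fact (Nat.Prime 2) := ⟨Nat.prime_two⟩
  haveI : (A.Q.subgroupOf A.P).Normal :=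
    (Subgroup.normal_subgroupOf_iff_le_normalizer A.Q_le_P).2 A.P_le_normalizer_Q
  have h1 : A.Q.relIndex W ∣ A.Q.relIndex A.P := by
    have h := Subgroup.relIndex_dvd_index_of_normal (A.Q.subgroupOf A.P) (W.subgroupOf A.P)
    rwa [Subgroup.relIndex_subgroupOf hW] at h
  rw [show A.Q.relIndex A.P = 2 * A.q from A.hQP] at h1
  obtain ⟨k, hk⟩ := hp.index (A.Q.subgroupOf W)
  change A.Q.relIndex W = 2 ^ k at hk
  rw [hk] at h1 ⊢
  match k with
  | 0 => simp
  | 1 => simp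
  | k + 2 =>
    exfalso
    have h4 : 2 * 2 ∣ 2 * A.q := dvd_trans ⟨2 ^ k, by ring⟩ h1
    exact A.hq2 ((Nat.prime_dvd_prime_iff_eq Nat.prime_two A.hq).1
      (Nat.dvd_of_mul_dvd_mul_left (by norm_num) h4)).symm

theorem q_eq_three : A.q = 3 := by
  classical
  obtain ⟨g, hVg, hgV, hnc⟩ := A.exists_crit
  have hV2 : IsPGroup 2 A.V := A.Q_isPGroup.to_le A.V_le_Q
  have hg2 : IsPGroup 2 (cj g A.V : Subgroup H) := hV2.map _
  obtain ⟨t, htV, htQ⟩ := SetLike.not_le_iff_exists.1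
    fun h : cj g A.V ≤ A.Q => hnc (le_centralizer_comm (h.trans A.Q_le_centralizer_V))
  have htP : t ∈ A.P := hgV htV
  set C := A.V ⊓ centralizer ({t} : Set H) with hC
  have hC2 : C.relIndex A.V ≤ 2 ∧ C.relIndex A.V ≠ 0 := by
    have hb : cj g⁻¹ A.V ≤ A.P := cj_le_iff.2 (by rwa [inv_inv])
    have h := A.relIndex_le_two hb (hV2.map _)
    rw [← relIndex_cj g, cj_cj_inv] at h
    refine ⟨le_trans ?_ h.1, Subgroup.index_ne_zero_of_finite⟩
    refine Nat.le_of_dvd (Nat.pos_of_ne_zero h.2) ?_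
    rw [← Subgroup.inf_relIndex_right (cj g A.Q)]
    refine Subgroup.relIndex_dvd_of_le_left _ (le_inf inf_le_right fun v hv => ?_)
    rw [mem_centralizer_iff]
    intro w hw
    rw [Set.mem_singleton_iff] at hw
    subst hw
    have h3 : cj g A.Q ≤ centralizer (cj g A.V : Set H) := by
      rw [← cj_centralizer]; exact cj_mono g A.Q_le_centralizer_V
    exact mem_centralizer_iff.1 (h3 hv.1) _ htV
  have hTP : A.Q ⊔ zpowers t ≤ A.P := sup_le A.Q_le_P (zpowers_le.2 htP)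
  have hT2 : IsPGroup 2 (A.Q ⊔ zpowers t : Subgroup H) :=
    A.Q_isPGroup.to_sup_of_normal_left' (hg2.to_le (zpowers_le.2 htV))
      (zpowers_le.2 (A.P_le_normalizer_Q htP))
  set T := A.Q ⊔ zpowers t with hT
  have hQT : A.Q.relIndex T = 2 := relIndex_eq_two_of_le_two (A.relIndex_le_two hTP hT2).1
    (A.relIndex_le_two hTP hT2).2 fun h => htQ (h (mem_sup_right (mem_zpowers t)))
  have hTq : T.relIndex A.P = A.q := by
    have h := Subgroup.relIndex_mul_relIndex A.Q T A.P le_sup_left hTP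
    rw [hQT, show A.Q.relIndex A.P = 2 * A.q from A.hQP] at h
    omega
  obtain ⟨p, hp, hpT⟩ : ∃ p ∈ A.P, p * t * p⁻¹ ∉ T := by
    by_contra hall
    push Not at hall
    refine htQ (A.le_Q hTP (le_normalizer_of_cj_le fun p hp => ?_) hT2
      (mem_sup_right (mem_zpowers t)))
    rw [hT, cj_sup, A.cj_Q hp]
    refine sup_le le_sup_left ?_
    rw [cj, MonoidHom.map_zpowers]
    exact zpowers_le.2 (hall p hp)
  have htp : p * t * p⁻¹ ∈ A.P := mul_mem (mul_mem hp htP) (inv_mem hp)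
  have hgen : T ⊔ zpowers (p * t * p⁻¹) = A.P :=
    A.eq_of_gt hTq le_sup_left (sup_le hTP (zpowers_le.2 htp))
      fun e => hpT (le_sup_right.trans e.le (mem_zpowers _))
  set W := C ⊓ cj p C with hW
  have hpC : (cj p C).relIndex A.V = C.relIndex A.V := by
    conv_lhs => rw [← A.cj_V hp]
    exact relIndex_cj p _ _
  have hW4 : W.relIndex A.V ≤ 4 ∧ W.relIndex A.V ≠ 0 := by
    refine ⟨le_trans (Subgroup.relIndex_inf_le) ?_, Subgroup.index_ne_zero_of_finite⟩
    rw [hpC]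
    calc C.relIndex A.V * C.relIndex A.V ≤ 2 * 2 := Nat.mul_le_mul hC2.1 hC2.1
      _ = 4 := rfl
  have hfix : A.P ≤ centralizer (W : Set H) := by
    rw [← hgen]
    refine sup_le (sup_le ?_ ?_) ?_
    · exact A.Q_le_centralizer_V.trans
        (Subgroup.centralizer_le fun w hw => (inf_le_left.trans inf_le_left : W ≤ A.V) hw)
    · refine le_centralizer_comm ((inf_le_left.trans inf_le_right).trans ?_)
      rw [Subgroup.zpowers_eq_closure, Subgroup.centralizer_closure]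
    · refine le_centralizer_comm (fun w hw => ?_)
      rw [Subgroup.zpowers_eq_closure, Subgroup.centralizer_closure, mem_centralizer_iff]
      intro y hy
      rw [Set.mem_singleton_iff] at hy
      subst hy
      have h1 := (mem_cj.1 hw.2).2
      have h2 := mem_centralizer_iff.1 h1 t rfl
      calc p * t * p⁻¹ * w = p * (t * (p⁻¹ * w * p)) * p⁻¹ := by group
        _ = p * (p⁻¹ * w * p * t) * p⁻¹ := by rw [h2]
        _ = w * (p * t * p⁻¹) := by group
  obtain ⟨r, hr, hrQ, hrq, hri⟩ := A.rot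
  obtain ⟨v, hv, hrv⟩ : ∃ v ∈ A.V, r * v * r⁻¹ ≠ v := by
    by_contra hall
    push Not at hall
    refine hrQ ?_
    change r ∈ A.Q
    rw [← A.centralizer_V]
    refine ⟨hr, mem_centralizer_iff.2 fun v hv => ?_⟩
    have := hall v hv
    calc v * r = r * v * r⁻¹ * r := by rw [this]
      _ = r * v := by group
  have hmem : ∀ i : ℕ, r ^ i * v * (r ^ i)⁻¹ ∈ A.V := fun i => by
    rw [← A.cj_V (pow_mem hr i)]; exact conj_mem_cj hv
  have hWP : ∀ w ∈ W, ∀ s ∈ A.P, s * w = w * s := fun w hw s hs =>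
    (mem_centralizer_iff.1 (hfix hs) w hw).symm
  have horb : ∀ i : ℕ, r ^ i * v * (r ^ i)⁻¹ * v ∈ W → i % A.q = 0 := by
    intro i hi
    set w := r ^ i * v * (r ^ i)⁻¹ * v with hw
    have hwV : w ∈ A.V := mul_mem (hmem i) hv
    have hvv : v * v = 1 := by rw [← pow_two]; exact A.sq_V hv
    have e1 : r ^ i * v * (r ^ i)⁻¹ = w * v := by
      rw [hw, mul_assoc _ v v, hvv, mul_one]
    have hk : ∀ k : ℕ, r ^ (i * k) * v * (r ^ (i * k))⁻¹ = w ^ k * v := by
      intro k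
      induction k with
      | zero => simp
      | succ k ih =>
        calc r ^ (i * (k + 1)) * v * (r ^ (i * (k + 1)))⁻¹
            = r ^ i * (r ^ (i * k) * v * (r ^ (i * k))⁻¹) * (r ^ i)⁻¹ := by
              rw [Nat.mul_succ, add_comm, pow_add]; group
          _ = (r ^ i * w ^ k) * v * (r ^ i)⁻¹ := by rw [ih]; group
          _ = (w ^ k * r ^ i) * v * (r ^ i)⁻¹ := by
              rw [hWP (w ^ k) (pow_mem hi k) _ (pow_mem hr i)]
          _ = w ^ k * (r ^ i * v * (r ^ i)⁻¹) := by group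
          _ = w ^ (k + 1) * v := by rw [e1, ← mul_assoc, ← pow_succ]
    have hwq : w ^ A.q = 1 := by
      have := hk A.q
      have hQc : ∀ s ∈ A.Q, s * v * s⁻¹ = v := fun s hs => by
        rw [← mem_centralizer_iff.1 (A.Q_le_centralizer_V hs) v hv, mul_inv_cancel_right]
      rw [mul_comm i A.q, pow_mul, hQc _ (pow_mem (show r ^ A.q ∈ A.Q from hrq) i)] at this
      exact mul_eq_right.1 this.symm
    have hw1 : w = 1 := by
      obtain ⟨c, hc⟩ : ∃ c, A.q = 2 * c + 1 := by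
        rcases A.hq.eq_two_or_odd with h | h
        · exact absurd h A.hq2
        · exact ⟨A.q / 2, by omega⟩
      rwa [hc, pow_succ, pow_mul, A.sq_V hwV, one_pow, one_mul] at hwq
    rw [hw1, one_mul] at e1
    by_contra hne
    have hcop : Nat.Coprime A.q i := A.hq.coprime_iff_not_dvd.2 fun h =>
      hne (Nat.mod_eq_zero_of_dvd h)
    have hbez : (1 : ℤ) = (A.q : ℤ) * Nat.gcdA A.q i + (i : ℤ) * Nat.gcdB A.q i := by
      rw [← Nat.gcd_eq_gcd_ab, hcop.gcd_eq_one]; rfl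
    have hK : r ∈ centralizer ({v} : Set H) := by
      have hrqc : r ^ A.q ∈ centralizer ({v} : Set H) :=
        Subgroup.centralizer_le (Set.singleton_subset_iff.2 hv) (A.Q_le_centralizer_V hrq)
      have hric : r ^ i ∈ centralizer ({v} : Set H) := mem_centralizer_iff.2 fun y hy => by
        rw [Set.mem_singleton_iff] at hy
        subst hy
        exact (mul_inv_eq_iff_eq_mul.1 e1).symm
      rw [show r = (r ^ A.q) ^ Nat.gcdA A.q i * (r ^ i) ^ Nat.gcdB A.q i by
        rw [← zpow_natCast r, ← zpow_natCast r i, ← zpow_mul, ← zpow_mul, ← zpow_add, ← hbez,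
          zpow_one]]
      exact mul_mem (zpow_mem hrqc _) (zpow_mem hric _)
    exact hrv (by rw [← mem_centralizer_iff.1 hK v rfl, mul_inv_cancel_right])
  have key : A.q + 1 ≤ W.relIndex A.V := by
    haveI : Finite A.V := inferInstance
    let f : Option (Fin A.q) → A.V ⧸ W.subgroupOf A.V := fun o => match o with
      | none => QuotientGroup.mk 1
      | some i => QuotientGroup.mk ⟨_, hmem i⟩
    have hvW : v ∉ W := fun h => hrv (by rw [hWP v h r hr, mul_inv_cancel_right])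
    have hinj : Function.Injective f := by
      rintro (- | i) (- | j) hij
      · rfl
      · exfalso
        have h := QuotientGroup.eq.1 hij
        simp only [inv_one, one_mul, Subgroup.mem_subgroupOf] at h
        exact hvW (by
          have h' := hWP _ h _ (inv_mem (pow_mem hr (j : ℕ)))
          have : v = (r ^ (j : ℕ))⁻¹ * (r ^ (j : ℕ) * v * (r ^ (j : ℕ))⁻¹) * r ^ (j : ℕ) := by group
          rw [this, h', inv_mul_cancel_right]
          exact h)
      · exfalso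
        have h := QuotientGroup.eq.1 hij.symm
        simp only [inv_one, one_mul, Subgroup.mem_subgroupOf] at h
        exact hvW (by
          have h' := hWP _ h _ (inv_mem (pow_mem hr (i : ℕ)))
          have : v = (r ^ (i : ℕ))⁻¹ * (r ^ (i : ℕ) * v * (r ^ (i : ℕ))⁻¹) * r ^ (i : ℕ) := by group
          rw [this, h', inv_mul_cancel_right]
          exact h)
      · have h := QuotientGroup.eq.1 hij
        simp only [Subgroup.mem_subgroupOf, Subgroup.coe_mul, InvMemClass.coe_inv] at h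
        have hdiff : ∀ a b : ℕ, a ≤ b → b < A.q →
            (r ^ a * v * (r ^ a)⁻¹)⁻¹ * (r ^ b * v * (r ^ b)⁻¹) ∈ W → a = b := by
          intro a b hab hb h
          have h' := hWP _ h _ (inv_mem (pow_mem hr a))
          have hw : v⁻¹ * (r ^ (b - a) * v * (r ^ (b - a))⁻¹) ∈ W := by
            have e : (r ^ a)⁻¹ * ((r ^ a * v * (r ^ a)⁻¹)⁻¹ * (r ^ b * v * (r ^ b)⁻¹)) * r ^ a =
                v⁻¹ * (r ^ (b - a) * v * (r ^ (b - a))⁻¹) := by
              conv_lhs => rw [show b = a + (b - a) by omega, pow_add]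
              group
            rw [← e, h', inv_mul_cancel_right]
            exact h
          have hvi : v⁻¹ = v := inv_eq_of_mul_eq_one_right (by rw [← pow_two]; exact A.sq_V hv)
          rw [hvi, mem_centralizer_iff.1 (A.Q_le_centralizer_V (A.V_le_Q (hmem (b - a)))) v hv]
            at hw
          have := horb _ hw
          rw [Nat.mod_eq_of_lt (by omega)] at this
          omega
        refine congrArg some (Fin.ext ?_)
        rcases le_total (i : ℕ) (j : ℕ) with hle | hle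
        · exact hdiff _ _ hle j.2 h
        · refine (hdiff _ _ hle i.2 ?_).symm
          have := inv_mem h
          rwa [mul_inv_rev, inv_inv] at this
    have := Nat.card_le_card_of_injective f hinj
    simpa [Subgroup.relIndex, Subgroup.index, Finite.card_option] using this
  have := A.hq.two_le
  have := A.hq2
  omega

end Setting

end Cfsg.Agent.S4Amalgam.SimsLocal
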