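import Cfsg.Agent.S4Amalgam.Suborbit

/-!
The structure theorem for suborbits of length 3, in terms of a group action.
-/

set_option autoImplicit false
set_option linter.style.haveILetI false

open Subgroup MulAction

namespace Cfsg.Agent.S4Amalgam.Suborbit

theorem of_action {G Ω : Type*} [Group G] [Finite G] [MulAction G Ω] [FaithfulSMul G Ω]
    (hprim : MulAction.IsPreprimitive G Ω) (a b : Ω)
    (h3 : Nat.card (MulAction.orbit (MulAction.stabilizer G a) b) = 3) :
    Nonempty (stabilizer G a ≃* Multiplicative (ZMod 3)) ∨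
      Nonempty (stabilizer G a ≃* Equiv.Perm (Fin 3)) ∨
      Nonempty (stabilizer G a ≃* DihedralGroup 6) ∨
      Nonempty (stabilizer G a ≃* Equiv.Perm (Fin 4)) ∨
      Nonempty (stabilizer G a ≃* Equiv.Perm (Fin 4) × Multiplicative (ZMod 2)) := by
  haveI := hprim
  have hab : a ≠ b := by
    rintro rfl
    have : MulAction.orbit (stabilizer G a) a = {a} := by
      ext x
      simp only [MulAction.mem_orbit_iff, Set.mem_singleton_iff]
      exact ⟨fun ⟨g, hg⟩ => hg ▸ g.2, fun h => ⟨1, by simp [h]⟩⟩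
    rw [this] at h3
    simp at h3
  haveI : Nontrivial Ω := ⟨a, b, hab⟩
  have hco : IsCoatom (stabilizer G a) :=
    (isCoatom_stabilizer_iff_preprimitive G a).2 hprim
  obtain ⟨g, hg⟩ := MulAction.exists_smul_eq G a b
  have hB : cj g (stabilizer G a) = stabilizer G b := by
    ext x
    rw [mem_cj, mem_stabilizer_iff, mem_stabilizer_iff, mul_smul, mul_smul, hg,
      inv_smul_eq_iff, hg]
  refine main hco g hB (fun e => ?_) ?_ fun N hN hle => ?_
  · have : MulAction.orbit (stabilizer G a) b = {b} := by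
      ext x
      simp only [MulAction.mem_orbit_iff, Set.mem_singleton_iff]
      refine ⟨fun ⟨k, hk⟩ => hk ▸ ?_, fun h => ⟨1, by simp [h]⟩⟩
      exact (mem_stabilizer_iff.1 (e.ge k.2) : (k : G) • b = b)
    rw [this] at h3
    simp at h3
  · rw [Subgroup.inf_relIndex_left]
    have h4 := Nat.card_congr (MulAction.orbitEquivQuotientStabilizer (stabilizer G a) b)
    rw [h3] at h4
    refine Eq.trans ?_ h4.symm
    show ((stabilizer G b).subgroupOf (stabilizer G a)).index = _
    rw [Subgroup.index_eq_card]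
    congr 2
  · rw [eq_bot_iff]
    intro n hn
    rw [Subgroup.mem_bot]
    refine FaithfulSMul.eq_of_smul_eq_smul (α := Ω) fun x => ?_
    obtain ⟨y, rfl⟩ := MulAction.exists_smul_eq G a x
    have h5 : (y⁻¹ * n * y⁻¹⁻¹) • a = a := hle (hN.conj_mem n hn y⁻¹)
    rw [inv_inv, mul_smul, mul_smul, inv_smul_eq_iff] at h5
    rw [h5, one_smul]

end Cfsg.Agent.S4Amalgam.Suborbit
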