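import Cfsg.Agent.S4Amalgam.Ident
import Cfsg.Agent.SporB.Sym3
import Cfsg.Agent.Lib.Thompson.Cores
import Cfsg.Agent.Lib.Involution.Dihedral

/-!
Point stabilizers of primitive groups with a suborbit of length 3.
-/

set_option autoImplicit false
set_option linter.unusedSectionVars false
set_option linter.style.haveILetI false

open Subgroup Cfsg

namespace Cfsg.Agent.S4Amalgam.Suborbit

variable {G : Type*} [Group G] [Finite G]

theorem perm_sq_of_fixed {α : Type*} (h : Nat.card α = 3) (σ : Equiv.Perm α) (a : α)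
    (ha : σ a = a) (b : α) : σ (σ b) = b := by
  haveI : Finite α := Nat.finite_of_card_ne_zero (by omega)
  obtain ⟨e⟩ : Nonempty (α ≃ Fin 3) := ⟨Finite.equivFinOfCardEq h⟩
  have key : ∀ τ : Equiv.Perm (Fin 3), ∀ i j, τ i = i → τ (τ j) = j := by decide
  have := key (e.permCongr σ) (e a) (e b) (by simp [Equiv.permCongr_apply, ha])
  simpa [Equiv.permCongr_apply] using this

/-- An element of odd order in a subgroup `D` of index 3 lies in all conjugates of `D`. -/
theorem odd_mem_cj {A D : Subgroup G} (h3 : D.relIndex A = 3) (hle : D ≤ A) {x p : G}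
    (hx : x ∈ D) (ho : Odd (orderOf x)) (hp : p ∈ A) : x ∈ cj p D := by
  set D' := D.subgroupOf A
  have hc : Nat.card (↥A ⧸ D') = 3 := h3
  have key : ∀ y : G, ∀ hy : y ∈ D, y ^ 2 ∈ cj p D := by
    intro y hy
    let σ : Equiv.Perm (↥A ⧸ D') := MulAction.toPermHom ↥A (↥A ⧸ D') ⟨y, hle hy⟩
    have hfix : σ ((1 : ↥A) : ↥A ⧸ D') = ((1 : ↥A) : ↥A ⧸ D') := by
      show ((⟨y, hle hy⟩ * 1 : ↥A) : ↥A ⧸ D') = _
      rw [QuotientGroup.eq]
      simpa [D', Subgroup.mem_subgroupOf] using hy
    have h2 := perm_sq_of_fixed hc σ _ hfix ((⟨p, hp⟩ : ↥A) : ↥A ⧸ D')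
    change ((⟨y, hle hy⟩ * (⟨y, hle hy⟩ * ⟨p, hp⟩) : ↥A) : ↥A ⧸ D') = _ at h2
    rw [QuotientGroup.eq] at h2
    have h3 : (y * (y * p))⁻¹ * p ∈ D := h2
    rw [mem_cj]
    have : p⁻¹ * y ^ 2 * p = ((y * (y * p))⁻¹ * p)⁻¹ := by group
    rw [this]
    exact inv_mem h3
  obtain ⟨k, hk⟩ := ho
  have : x = (x ^ (k + 1)) ^ 2 := by
    rw [← pow_mul, show (k + 1) * 2 = orderOf x + 1 by omega, pow_succ, pow_orderOf_eq_one, one_mul]
  rw [this]
  exact key _ (pow_mem hx _)

theorem isPGroup_inter {A B : Subgroup G} (hA : (A ⊓ B).relIndex A = 3)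
    (hB : (A ⊓ B).relIndex B = 3) (hgen : A ⊔ B = ⊤)
    (hcore : ∀ N : Subgroup G, N.Normal → N ≤ A → N = ⊥) : IsPGroup 2 (A ⊓ B : Subgroup G) := by
  haveI : Fact (Nat.Prime 2) := ⟨Nat.prime_two⟩
  set X : Subgroup G := Subgroup.closure {x | x ∈ A ⊓ B ∧ Odd (orderOf x)} with hX
  have hn : ∀ K : Subgroup G, A ⊓ B ≤ K → (A ⊓ B).relIndex K = 3 →
      K ≤ normalizer (X : Set G) := fun K hK h3 =>
    le_normalizer_of_cj_le fun p hp => by
      rw [hX]
      show Subgroup.map _ _ ≤ _
      rw [MonoidHom.map_closure, Subgroup.closure_le]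
      rintro _ ⟨x, ⟨hx, ho⟩, rfl⟩
      refine Subgroup.subset_closure ⟨?_, ?_⟩
      · have := odd_mem_cj h3 hK hx ho (inv_mem hp)
        rwa [mem_cj, inv_inv] at this
      · rwa [orderOf_injective (MulAut.conj p).toMonoidHom (MulAut.conj p).injective]
  have hXn : X.Normal := by
    rw [← Subgroup.normalizer_eq_top_iff, eq_top_iff, ← hgen]
    exact sup_le (hn A inf_le_left hA) (hn B inf_le_right hB)
  have hbot := hcore X hXn ((Subgroup.closure_le _).2 fun x hx => hx.1.1)
  refine IsPGroup.iff_card.2 ?_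
  refine ⟨_, Nat.eq_prime_pow_of_unique_prime_dvd Nat.card_pos.ne' fun {r} hr hdvd => ?_⟩
  by_contra hr2
  haveI := Fact.mk hr
  obtain ⟨x, hx⟩ := exists_prime_orderOf_dvd_card' (G := (A ⊓ B : Subgroup G)) r hdvd
  have hmem : (x : G) ∈ X := by
    refine Subgroup.subset_closure ⟨x.2, ?_⟩
    rw [Subgroup.orderOf_coe, hx]
    exact hr.odd_of_ne_two hr2
  rw [hbot, Subgroup.mem_bot] at hmem
  rw [show x = 1 from Subtype.ext hmem, orderOf_one] at hx
  exact hr.ne_one hx.symm

/-- A 2-subgroup lies in a conjugate of a 2-subgroup of odd index. -/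
theorem exists_le_cj {A D W : Subgroup G} (hDA : D ≤ A) (hD : IsPGroup 2 D)
    (hodd : ¬ 2 ∣ D.relIndex A) (hWA : W ≤ A) (hW : IsPGroup 2 W) :
    ∃ p ∈ A, W ≤ cj p D := by
  haveI : Fact (Nat.Prime 2) := ⟨Nat.prime_two⟩
  let S : Sylow 2 A :=
    IsPGroup.toSylow (hD.of_equiv (Subgroup.subgroupOfEquivOfLe hDA).symm) hodd
  obtain ⟨T, hT⟩ := (hW.of_equiv (Subgroup.subgroupOfEquivOfLe hWA).symm).exists_le_sylow
  obtain ⟨a, ha⟩ := MulAction.exists_smul_eq A S T
  refine ⟨(a : G), a.2, fun w hw => ?_⟩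
  have h1 : (⟨w, hWA hw⟩ : A) ∈ T := hT hw
  rw [← ha, ← SetLike.mem_coe, Sylow.coe_smul, Set.mem_smul_set_iff_inv_smul_mem] at h1
  rw [mem_cj]
  simp [MulAut.smul_def, mul_assoc] at h1
  rw [mul_assoc]
  exact h1

theorem omega_ne_bot {D : Subgroup G} (hD : IsPGroup 2 D) (hne : D ≠ ⊥) :
    omegaOne 2 (D ⊓ centralizer (D : Set G)) ≠ ⊥ := by
  haveI : Fact (Nat.Prime 2) := ⟨Nat.prime_two⟩
  haveI : Nontrivial D := (Subgroup.nontrivial_iff_ne_bot _).2 hne
  haveI := hD.center_nontrivial
  obtain ⟨k, hk⟩ := IsPGroup.iff_card.1 (hD.to_subgroup (Subgroup.center D))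
  have hk0 : k ≠ 0 := by
    rintro rfl
    have := Finite.one_lt_card (α := Subgroup.center D)
    omega
  obtain ⟨z, hz⟩ := exists_prime_orderOf_dvd_card' (G := Subgroup.center D) 2
    (hk ▸ dvd_pow_self 2 hk0)
  intro h
  have h1 : (((z : D) : G)) ∈ omegaOne 2 (D ⊓ centralizer (D : Set G)) := by
    refine Subgroup.subset_closure ⟨⟨(z : D).2, mem_centralizer_iff.2 fun y hy =>
      congrArg Subtype.val (Subgroup.mem_center_iff.1 z.2 ⟨y, hy⟩)⟩, ?_⟩
    rw [← hz]
    have := pow_orderOf_eq_one z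
    exact_mod_cast congrArg (fun a : Subgroup.center D => (((a : D)) : G)) this
  rw [h, Subgroup.mem_bot] at h1
  have : z = 1 := Subtype.ext (Subtype.ext h1)
  rw [this, orderOf_one] at hz
  omega

theorem cj_omega (h : G) {D : Subgroup G} (hh : cj h D = D) :
    cj h (omegaOne 2 (D ⊓ centralizer (D : Set G))) =
      omegaOne 2 (D ⊓ centralizer (D : Set G)) := by
  have e : cj h (D ⊓ centralizer (D : Set G)) = D ⊓ centralizer (D : Set G) := by
    rw [cj_inf, cj_centralizer, hh]
  show Subgroup.map _ (Subgroup.closure _) = Subgroup.closure _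
  rw [MonoidHom.map_closure]
  congr 1
  ext y
  constructor
  · rintro ⟨w, ⟨hw, hw2⟩, rfl⟩
    exact ⟨e.le (Subgroup.mem_map_of_mem _ hw), by rw [← map_pow, hw2, map_one]⟩
  · rintro ⟨hy, hy2⟩
    obtain ⟨w, hw, rfl⟩ := Subgroup.mem_map.1 (e.ge hy)
    exact ⟨w, ⟨hw, (MulAut.conj h).injective (by rw [map_pow, map_one]; exact hy2)⟩, rfl⟩

theorem conjugate_pCore (h : G) (A : Subgroup G) :
    pCoreOf 2 (cj h A) = cj h (pCoreOf 2 A) := by
  let φ : A ≃* (cj h A : Subgroup G) := A.equivMapOfInjective _ (MulAut.conj h).injective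
  have hφc : (pCore 2 A).map φ.toMonoidHom = pCore 2 (cj h A : Subgroup G) :=
    Thompson.map_pCore_equiv φ
  rw [pCoreOf, ← hφc, pCoreOf]
  show Subgroup.map _ _ = Subgroup.map _ _
  rw [Subgroup.map_map, Subgroup.map_map]
  rfl

theorem conjugate_quot (h : G) {A : Subgroup G}
    (he : Nonempty (A ⧸ pCore 2 A ≃* Equiv.Perm (Fin 3))) :
    Nonempty ((cj h A : Subgroup G) ⧸ pCore 2 (cj h A : Subgroup G) ≃* Equiv.Perm (Fin 3)) := by
  obtain ⟨e⟩ := he
  let φ : A ≃* (cj h A : Subgroup G) := A.equivMapOfInjective _ (MulAut.conj h).injective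
  exact ⟨(QuotientGroup.congr (pCore 2 A) (pCore 2 (cj h A : Subgroup G)) φ
    (Thompson.map_pCore_equiv φ)).symm.trans e⟩

set_option maxHeartbeats 800000 in
-- long case analysis
theorem main {A B : Subgroup G} (hA : IsCoatom A) (g : G) (hB : cj g A = B) (hne : B ≠ A)
    (h3 : (A ⊓ B).relIndex A = 3) (hcore : ∀ N : Subgroup G, N.Normal → N ≤ A → N = ⊥) :
    Nonempty (A ≃* Multiplicative (ZMod 3)) ∨ Nonempty (A ≃* Equiv.Perm (Fin 3)) ∨
      Nonempty (A ≃* DihedralGroup 6) ∨ Nonempty (A ≃* Equiv.Perm (Fin 4)) ∨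
      Nonempty (A ≃* Equiv.Perm (Fin 4) × Multiplicative (ZMod 2)) := by
  classical
  haveI : Fact (Nat.Prime 2) := ⟨Nat.prime_two⟩
  haveI : Fact (Nat.Prime 3) := ⟨Nat.prime_three⟩
  have hgen : A ⊔ B = ⊤ := by
    refine hA.2 _ (lt_of_le_of_ne le_sup_left fun h => hne ?_)
    exact Subgroup.eq_of_le_of_card_ge (le_sup_right.trans h.ge) (by rw [← hB, card_cj])
  have h3' : (A ⊓ B).relIndex B = 3 := by
    have e1 := Subgroup.card_mul_index ((A ⊓ B).subgroupOf A)
    have e2 := Subgroup.card_mul_index ((A ⊓ B).subgroupOf B)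
    rw [Nat.card_congr (Subgroup.subgroupOfEquivOfLe inf_le_left).toEquiv] at e1
    rw [Nat.card_congr (Subgroup.subgroupOfEquivOfLe inf_le_right).toEquiv] at e2
    have e3 : Nat.card B = Nat.card A := by rw [← hB, card_cj]
    have : Nat.card (A ⊓ B : Subgroup G) * (A ⊓ B).relIndex B =
        Nat.card (A ⊓ B : Subgroup G) * (A ⊓ B).relIndex A := by
      rw [show (A ⊓ B).relIndex B = ((A ⊓ B).subgroupOf B).index from rfl,
        show (A ⊓ B).relIndex A = ((A ⊓ B).subgroupOf A).index from rfl, e1, e2, e3]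
    rw [Nat.eq_of_mul_eq_mul_left Nat.card_pos this, h3]
  have hD2 := isPGroup_inter h3 h3' hgen hcore
  set D : Subgroup G := A ⊓ B with hD
  have hDA : D ≤ A := inf_le_left
  have hDB : D ≤ B := inf_le_right
  have hodd : ¬ 2 ∣ D.relIndex A := by rw [h3]; decide
  have hoddB : ¬ 2 ∣ D.relIndex B := by rw [h3']; decide
  have hcardA : Nat.card A = Nat.card D * 3 := by
    rw [← ((D.subgroupOf A)).card_mul_index,
      Nat.card_congr (Subgroup.subgroupOfEquivOfLe hDA).toEquiv]
    exact congrArg _ h3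
  by_cases hDn : A ≤ normalizer (D : Set G)
  · left
    have hBn : B ≤ normalizer (D : Set G) := by
      have hgD : cj g D ≤ B := hB ▸ cj_mono g hDA
      have e : cj g D = D := by
        obtain ⟨p, hp, hle⟩ := exists_le_cj hDA hD2 hodd (W := cj g⁻¹ D)
          (cj_le_iff.2 (by rw [inv_inv, hB]; exact hDB)) (hD2.map _)
        rw [cj_eq_of_mem_normalizer (hDn hp)] at hle
        have e0 := Subgroup.eq_of_le_of_card_ge hle (card_cj g⁻¹ D).ge
        conv_lhs => rw [← e0, cj_cj_inv]
      rw [← hB]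
      calc cj g A ≤ cj g (normalizer (D : Set G)) := cj_mono g hDn
        _ = normalizer (cj g D : Set G) := cj_normalizer g D
        _ = normalizer (D : Set G) := by rw [e]
    have hbot : D = ⊥ := hcore D
      (by rw [← Subgroup.normalizer_eq_top_iff, eq_top_iff, ← hgen]; exact sup_le hDn hBn) hDA
    have hc : Nat.card A = 3 := by rw [hcardA, hbot, Subgroup.card_bot]
    exact ⟨mulEquivOfPrimeCardEq hc (by rw [Nat.card_congr Multiplicative.toAdd, Nat.card_zmod])⟩
  -- now `A` induces `S₃` on the cosets of `D`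
  let f : A →* Equiv.Perm (A ⧸ D.subgroupOf A) := MulAction.toPermHom A _
  have hker : f.ker = (D.subgroupOf A).normalCore :=
    (Subgroup.normalCore_eq_ker _).symm
  have hperm : Nat.card (Equiv.Perm (A ⧸ D.subgroupOf A)) = 6 := by
    haveI : Finite (A ⧸ D.subgroupOf A) := inferInstance
    rw [Nat.card_perm, show Nat.card (A ⧸ D.subgroupOf A) = 3 from h3]
    rfl
  have hkidx : f.ker.index = 6 := by
    have hd : f.ker.index ∣ 6 := by
      rw [Subgroup.index_ker, ← hperm]
      exact Subgroup.card_subgroup_dvd_card _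
    have hle : f.ker ≤ D.subgroupOf A := hker ▸ Subgroup.normalCore_le _
    have h3d : 3 ∣ f.ker.index := by
      have := Subgroup.index_dvd_of_le hle
      rwa [show (D.subgroupOf A).index = 3 from h3] at this
    have hne3 : f.ker.index ≠ 3 := by
      intro h
      refine hDn ((Subgroup.normal_subgroupOf_iff_le_normalizer hDA).1 ?_)
      have : f.ker = D.subgroupOf A := by
        refine Subgroup.eq_of_le_of_card_ge hle ?_
        have e1 := f.ker.card_mul_index
        have e2 := (D.subgroupOf A).card_mul_index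
        rw [h] at e1
        rw [show (D.subgroupOf A).index = 3 from h3] at e2
        omega
      rw [← this]; infer_instance
    obtain ⟨c, hc⟩ := h3d
    have : c ≤ 2 := by have := Nat.le_of_dvd (by norm_num) hd; omega
    have := Subgroup.index_ne_zero_of_finite (H := f.ker)
    interval_cases c <;> omega
  have hpc : pCore 2 A = f.ker := by
    apply le_antisymm
    · rw [hker, Subgroup.normalCore]
      intro x hx y
      let S : Sylow 2 A :=
        IsPGroup.toSylow (hD2.of_equiv (Subgroup.subgroupOfEquivOfLe hDA).symm) hodd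
      have hp : IsPGroup 2 (pCore 2 A) := S.isPGroup'.to_le (sSup_le fun N hN => by
        haveI := hN.1
        exact hN.2.le_sylow_of_normal S)
      exact hp.le_sylow_of_normal S (Subgroup.Normal.conj_mem inferInstance x hx y)
    · exact le_sSup ⟨inferInstance, (hD2.of_equiv (Subgroup.subgroupOfEquivOfLe hDA).symm).to_le
        (hker ▸ Subgroup.normalCore_le _)⟩
  have hquot : Nonempty (A ⧸ pCore 2 A ≃* Equiv.Perm (Fin 3)) := by
    have hsurj : Function.Surjective f := by
      rw [← MonoidHom.range_eq_top]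
      refine Subgroup.eq_top_of_card_eq _ ?_
      rw [hperm, ← Subgroup.index_ker, hkidx]
    exact ⟨(QuotientGroup.quotientMulEquivOfEq hpc).trans
      ((QuotientGroup.quotientKerEquivOfSurjective f hsurj).trans
        (Equiv.permCongrHom (Finite.equivFinOfCardEq h3)))⟩
  set Q : Subgroup G := pCoreOf 2 A with hQ
  have hQsub : Q.subgroupOf A = pCore 2 A :=
    Subgroup.comap_map_eq_self_of_injective A.subtype_injective _
  have hQD : Q ≤ D := fun x hx => by
    obtain ⟨y, hy, rfl⟩ := Subgroup.mem_map.1 hx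
    rw [hpc] at hy
    exact (Subgroup.mem_subgroupOf.1 (Subgroup.normalCore_le _ (hker.le hy)) : _)
  have hQn : A ≤ normalizer (Q : Set G) := by
    refine (Subgroup.normal_subgroupOf_iff_le_normalizer (Subgroup.map_subtype_le _)).1 ?_
    show ((pCoreOf 2 A).subgroupOf A).Normal
    rw [← hQ, hQsub]; infer_instance
  have hQA : Q.relIndex A = 6 := by
    show (Q.subgroupOf A).index = 6
    rw [hQsub, hpc, hkidx]
  have hQD2 : Q.relIndex D = 2 := by
    have := Subgroup.relIndex_mul_relIndex Q D A hQD hDA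
    rw [hQA, h3] at this
    omega
  -- a conjugating element fixing `D`
  obtain ⟨h, hhA, hhD⟩ : ∃ h, cj h A = B ∧ cj h D = D := by
    have hgDB : cj g D ≤ B := hB ▸ cj_mono g hDA
    obtain ⟨b, hb, hle⟩ := exists_le_cj hgDB (hD2.map _)
      (by rw [← hB, relIndex_cj]; exact hodd) hDB hD2
    refine ⟨b * g, by rw [cj_mul, hB, cj_eq_of_mem hb], ?_⟩
    rw [cj_mul]
    exact (Subgroup.eq_of_le_of_card_ge hle (le_of_eq (by rw [card_cj, card_cj]))).symm
  have hQB : pCoreOf 2 B = cj h Q := by rw [← hhA, conjugate_pCore]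
  by_cases hC : A ⊓ centralizer (Q : Set G) ≤ Q
  · -- characteristic 2: the amalgam
    have hDne : D ≠ ⊥ := by
      intro e
      rw [e] at hQD2
      rw [Subgroup.relIndex_bot_right] at hQD2
      omega
    set Z := omegaOne 2 (D ⊓ centralizer (D : Set G)) with hZ
    have hact : ¬ A ≤ centralizer (Z : Set G) := by
      intro hc
      have hcB : B ≤ centralizer (Z : Set G) := by
        rw [← hhA, hZ, ← cj_omega h hhD, ← cj_centralizer]
        exact cj_mono h hc
      have hnorm : ∀ {K : Subgroup G}, K ≤ centralizer (Z : Set G) → K ≤ normalizer (Z : Set G) :=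
        fun hK => hK.trans (centralizer_le_normalizer' Z)
      have hn : Z.Normal := by
        rw [← Subgroup.normalizer_eq_top_iff, eq_top_iff, ← hgen]
        exact sup_le (hnorm hc) (hnorm hcB)
      exact omega_ne_bot hD2 hDne (hcore Z hn
        (((Subgroup.closure_le _).2 fun _ hx => hx.1.1).trans hDA))
    let M : S4Amalgam.Amalgam G :=
      { P := fun b => bif b then B else A
        T := D
        fin := fun b => inferInstance
        gen := hgen
        hT := rfl
        hC := fun b => by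
          cases b
          · exact hC
          · have key : B ⊓ centralizer ((pCoreOf 2 B : Subgroup G) : Set G) ≤ pCoreOf 2 B := by
              rw [hQB, ← cj_centralizer, ← hhA, ← cj_inf]
              exact cj_mono h hC
            exact key
        hS := fun b => by
          cases b
          · exact ⟨IsPGroup.toSylow (hD2.of_equiv (Subgroup.subgroupOfEquivOfLe hDA).symm) hodd,
              rfl⟩
          · exact ⟨IsPGroup.toSylow (hD2.of_equiv (Subgroup.subgroupOfEquivOfLe hDB).symm) hoddB,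
              rfl⟩
        core := fun N hN hle => hcore N hN (hle.trans hDA)
        quot := fun b => by
          cases b
          · exact hquot
          · subst hhA; exact conjugate_quot h hquot
        act := fun b => by
          cases b
          · exact hact
          · show ¬ B ≤ centralizer (Z : Set G)
            rw [← hhA, hZ, ← cj_omega h hhD, ← cj_centralizer, cj_le_cj_iff]
            exact hact }
    rcases M.main with ⟨⟨e⟩, -⟩ | ⟨⟨e⟩, -⟩
    · exact Or.inr (Or.inr (Or.inr (Or.inl ⟨e⟩)))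
    · exact Or.inr (Or.inr (Or.inr (Or.inr ⟨e.trans MulEquiv.prodComm⟩)))
  -- degenerate case
  set C := A ⊓ centralizer (Q : Set G) with hCdef
  have hC3 : 3 ∣ Nat.card C := by
    by_contra hno
    refine hC fun x hx => ?_
    have hCn : A ≤ normalizer (C : Set G) :=
      le_normalizer_inf le_normalizer (hQn.trans (normalizer_le_normalizer_centralizer _))
    have hdvd : Nat.card C ∣ Nat.card A := Subgroup.card_dvd_of_le inf_le_left
    rw [hcardA] at hdvd
    have h2 : Nat.card C ∣ Nat.card D :=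
      ((Nat.prime_three.coprime_iff_not_dvd.2 hno).symm).dvd_of_dvd_mul_right hdvd
    have hC2 : IsPGroup 2 C := by
      obtain ⟨k, hk⟩ := IsPGroup.iff_card.1 hD2
      rw [hk] at h2
      obtain ⟨j, -, hj⟩ := (Nat.dvd_prime_pow Nat.prime_two).1 h2
      exact IsPGroup.of_card hj
    have h4 : C.subgroupOf A ≤ pCore 2 A := le_sSup
      ⟨(Subgroup.normal_subgroupOf_iff_le_normalizer inf_le_left).2 hCn,
        hC2.of_equiv (Subgroup.subgroupOfEquivOfLe inf_le_left).symm⟩
    exact Subgroup.mem_map.2 ⟨⟨x, hx.1⟩, h4 hx, rfl⟩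
  obtain ⟨w', hw'⟩ := exists_prime_orderOf_dvd_card' (G := C) 3 hC3
  set w : G := (w' : G) with hw
  have hwo : orderOf w = 3 := by rw [hw, Subgroup.orderOf_coe, hw']
  have hwD : w ∉ D := fun hwD => by
    obtain ⟨k, hk⟩ := IsPGroup.iff_orderOf.1 hD2 ⟨w, hwD⟩
    rw [Subgroup.orderOf_mk, hwo] at hk
    rcases k with - | k
    · omega
    · rw [pow_succ] at hk; omega
  have hAeq : D ⊔ zpowers w = A := by
    refine le_antisymm (sup_le hDA (zpowers_le.2 w'.2.1)) ?_
    have hmul := Subgroup.relIndex_mul_relIndex D (D ⊔ zpowers w) A le_sup_left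
      (sup_le hDA (zpowers_le.2 w'.2.1))
    rw [h3] at hmul
    rcases (Nat.dvd_prime Nat.prime_three).1 (Dvd.intro_left _ hmul) with h1 | h1
    · exact Subgroup.relIndex_eq_one.1 h1
    · rw [h1] at hmul
      exact absurd (Subgroup.relIndex_eq_one.1 (show D.relIndex (D ⊔ zpowers w) = 1 by omega)
        (mem_sup_right (mem_zpowers w))) hwD
  have hDnQ : D ≤ normalizer (Q : Set G) := hDA.trans hQn
  have hDnQ' : D ≤ normalizer (cj h Q : Set G) := by
    rw [← hhD, ← cj_normalizer]; exact cj_mono h hDnQ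
  have hwQ : zpowers w ≤ centralizer (Q : Set G) := zpowers_le.2 w'.2.2
  have hKn : ∀ (R : Subgroup G), R ≤ Q → D ≤ normalizer (R : Set G) →
      A ≤ normalizer (R : Set G) := fun R hR hn => by
    rw [← hAeq]
    exact sup_le hn ((hwQ.trans (Subgroup.centralizer_le hR)).trans (centralizer_le_normalizer' R))
  have hKbot : Q ⊓ cj h Q = ⊥ := by
    refine hcore _ ?_ (inf_le_left.trans (hQD.trans hDA))
    rw [← Subgroup.normalizer_eq_top_iff, eq_top_iff, ← hgen]
    refine sup_le (hKn _ inf_le_left (le_normalizer_inf hDnQ hDnQ')) ?_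
    have := hKn (cj h⁻¹ Q ⊓ Q) inf_le_right (le_normalizer_inf ?_ hDnQ)
    · have h5 := cj_mono h this
      rwa [hhA, cj_normalizer, cj_inf, cj_cj_inv] at h5
    · rw [show D = cj h⁻¹ D by conv_rhs => rw [← hhD, cj_inv_cj], ← cj_normalizer]
      exact cj_mono h⁻¹ hDnQ
  have hQ2 : Nat.card Q ≤ 2 := by
    have e : (Q ⊓ cj h Q).relIndex Q ≤ 2 := by
      rw [Subgroup.inf_relIndex_left]
      have h6 : (cj h Q).relIndex D = 2 := by
        conv_lhs => rw [← hhD]
        rw [relIndex_cj, hQD2]
      refine Nat.le_of_dvd (by norm_num) ?_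
      rw [← h6]
      haveI : ((cj h Q).subgroupOf D).Normal :=
        Subgroup.normal_subgroupOf_of_le_normalizer hDnQ'
      have := Subgroup.relIndex_dvd_index_of_normal ((cj h Q).subgroupOf D) (Q.subgroupOf D)
      rwa [Subgroup.relIndex_subgroupOf hQD] at this
    rwa [hKbot, Subgroup.relIndex_bot_left] at e
  have hQc : Nat.card A = 6 * Nat.card Q := by
    rw [← (Q.subgroupOf A).card_mul_index, Nat.card_congr
      (Subgroup.subgroupOfEquivOfLe (hQD.trans hDA)).toEquiv, show (Q.subgroupOf A).index = 6 from hQA]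
    ring
  obtain ⟨eq3⟩ := hquot
  rcases eq_or_lt_of_le hQ2 with hQ2 | hQ1
  · -- order 12
    refine Or.inr (Or.inr (Or.inl ?_))
    have hcD : Nat.card D = 4 := by omega
    obtain ⟨z, hzQ, hz1⟩ := exists_ne_one (H := Q) (by
      intro e; rw [e, Subgroup.card_bot] at hQ2; omega)
    have hQel : ∀ x ∈ Q, x = 1 ∨ x = z := by
      intro x hx
      obtain ⟨y, -, hy⟩ := (Nat.card_eq_two_iff' (1 : Q)).1 hQ2
      by_cases hx1 : x = 1
      · exact Or.inl hx1
      · right
        have e1 : (⟨x, hx⟩ : Q) = y := hy _ fun e => hx1 (congrArg Subtype.val e)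
        have e2 : (⟨z, hzQ⟩ : Q) = y := hy _ fun e => hz1 (congrArg Subtype.val e)
        exact congrArg Subtype.val (e1.trans e2.symm)
    have hzsq : z * z = 1 := by
      rcases hQel _ (mul_mem hzQ hzQ) with h' | h'
      · exact h'
      · exact absurd (mul_eq_left.1 h') hz1
    have hu0 : cj h Q ≠ Q := fun e => by
      rw [e, inf_idem] at hKbot
      exact hz1 (Subgroup.mem_bot.1 (hKbot ▸ hzQ))
    obtain ⟨u, huQ', huQ⟩ : ∃ u ∈ cj h Q, u ∉ Q := by
      by_contra hall
      push Not at hall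
      exact hu0 (Subgroup.eq_of_le_of_card_ge hall (card_cj h Q).ge)
    have huD : u ∈ D := hhD ▸ cj_mono h hQD huQ'
    have huu : u * u = 1 := by
      rcases hQel _ (mul_mem (mem_cj.1 huQ') (mem_cj.1 huQ')) with h' | h'
      · calc u * u = h * ((h⁻¹ * u * h) * (h⁻¹ * u * h)) * h⁻¹ := by group
          _ = 1 := by rw [h']; group
      · have : h⁻¹ * u * h = z := by
          rcases hQel _ (mem_cj.1 huQ') with h'' | h''
          · rw [h'', one_mul] at h'; exact absurd h'.symm hz1
          · exact h''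
        rw [this, hzsq] at h'
        exact absurd h'.symm hz1
    have hDexp : ∀ x ∈ D, x * x = 1 ∧ x * z = z * x := by
      intro x hx
      have hzc : ∀ y ∈ A, y * z = z * y := by
        intro y hy
        rcases hQel _ (conj_mem_cj (g := y) hzQ |> fun hh =>
          (cj_eq_of_mem_normalizer (hQn hy)).le hh) with h' | h'
        · exact absurd (conj_eq_one_iff.1 h') hz1
        · exact mul_inv_eq_iff_eq_mul.1 h'
      refine ⟨?_, hzc x (hDA hx)⟩
      by_cases hxQ : x ∈ Q
      · rcases hQel _ hxQ with rfl | rfl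
        · exact one_mul 1
        · exact hzsq
      · obtain ⟨q, hq, rfl⟩ := (index_two_cases hQD2 hx huD huQ).resolve_left hxQ
        rcases hQel _ hq with h' | h'
        · rw [h', one_mul]; exact huu
        · rw [h']
          calc z * u * (z * u) = z * (u * z) * u := by group
            _ = z * (z * u) * u := by rw [hzc u (hDA huD)]
            _ = (z * z) * (u * u) := by group
            _ = 1 := by rw [hzsq, huu, one_mul]
    have hz2 : orderOf z = 2 := orderOf_eq_prime (by rw [pow_two, hzsq]) hz1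
    have hwz : Commute w z := (mem_centralizer_iff.1 w'.2.2 z hzQ).symm
    -- `u` inverts `w`
    have huw : u * w * (u * w) = 1 := by
      let F : A →* Equiv.Perm (Fin 3) := eq3.toMonoidHom.comp (QuotientGroup.mk' _)
      have hF : ∀ y : A, F y = 1 ↔ (y : G) ∈ Q := fun y => by
        rw [← Subgroup.mem_subgroupOf (H := Q) (K := A), hQsub]
        exact (MulEquiv.map_eq_one_iff eq3).trans (QuotientGroup.eq_one_iff _)
      have key : ∀ a b : Equiv.Perm (Fin 3), a ≠ 1 → a * a = 1 → b ≠ 1 → b ^ 3 = 1 →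
          (a * b) * (a * b) = 1 := by decide
      have h1 : (F ⟨u, hDA huD⟩ * F ⟨w, w'.2.1⟩) * (F ⟨u, hDA huD⟩ * F ⟨w, w'.2.1⟩) = 1 := by
        refine key _ _ (fun e => huQ ((hF _).1 e)) ?_ (fun e => hwD (hQD ((hF _).1 e))) ?_
        · rw [← map_mul, hF]; simp [huu, Q.one_mem]
        · rw [← map_pow, hF]
          have : w ^ 3 = 1 := hwo ▸ pow_orderOf_eq_one w
          simp [this, Q.one_mem]
      rw [← map_mul, ← map_mul, hF] at h1
      rcases hQel _ h1 with h' | h'
      · exact h'
      · exfalso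
        simp only [Subgroup.coe_mul] at h'
        have h4 : (u * w) ^ 4 = 1 := by
          calc (u * w) ^ 4 = (u * w * (u * w)) * (u * w * (u * w)) := by
                simp only [pow_succ, pow_zero, one_mul, mul_assoc]
            _ = 1 := by rw [h', hzsq]
        have hp : IsPGroup 2 (zpowers (u * w)) := by
          have hd : Nat.card (zpowers (u * w)) ∣ 2 ^ 2 := by
            rw [Nat.card_zpowers]; exact orderOf_dvd_of_pow_eq_one h4
          obtain ⟨j, -, hj⟩ := (Nat.dvd_prime_pow Nat.prime_two).1 hd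
          exact IsPGroup.of_card hj
        obtain ⟨p, hp', hle⟩ := exists_le_cj hDA hD2 hodd
          (zpowers_le.2 (mul_mem (hDA huD) w'.2.1)) hp
        have h5 := (hDexp _ (mem_cj.1 (hle (mem_zpowers _)))).1
        apply hz1
        rw [← h']
        calc u * w * (u * w) = p * ((p⁻¹ * (u * w) * p) * (p⁻¹ * (u * w) * p)) * p⁻¹ := by group
          _ = 1 := by rw [h5]; group
    set y := u * z * w with hy
    have huz : u * z = z * u := (hDexp u huD).2
    have huzw : y * y = 1 := by
      rw [hy]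
      calc u * z * w * (u * z * w) = u * (z * w) * (u * (z * w)) := by group
        _ = u * (w * z) * (u * (w * z)) := by rw [hwz.eq]
        _ = u * w * (z * u) * w * z := by group
        _ = u * w * (u * z) * w * z := by rw [huz]
        _ = u * w * u * (z * w) * z := by group
        _ = u * w * u * (w * z) * z := by rw [hwz.eq]
        _ = (u * w * (u * w)) * (z * z) := by group
        _ = 1 := by rw [huw, hzsq, one_mul]
    have hu2 : orderOf u = 2 := orderOf_eq_prime (by rw [pow_two, huu]) fun e => huQ (e ▸ Q.one_mem)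
    have hy2 : orderOf y = 2 := by
      refine orderOf_eq_prime (by rw [pow_two, huzw]) fun e => hwD ?_
      have : w = (u * z)⁻¹ := eq_inv_of_mul_eq_one_right e
      rw [this]
      exact inv_mem (mul_mem huD (hQD hzQ))
    have h6 : orderOf (u * y) = 6 := by
      rw [show u * y = w * z by rw [hy, hwz.eq, ← mul_assoc, ← mul_assoc, huu, one_mul],
        hwz.orderOf_mul_eq_mul_orderOf_of_coprime (by rw [hwo, hz2]; decide), hwo, hz2]
    obtain ⟨e⟩ := Involution.closure_pair_equiv_dihedral hu2 hy2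
    rw [h6] at e
    have hcl : closure ({u, y} : Set G) = A := by
      refine Subgroup.eq_of_le_of_card_ge ((Subgroup.closure_le _).2 ?_) ?_
      · rintro x (rfl | rfl)
        · exact hDA huD
        · exact mul_mem (mul_mem (hDA huD) (hDA (hQD hzQ))) w'.2.1
      · rw [Nat.card_congr e.toEquiv, DihedralGroup.nat_card, hQc, hQ2]
    exact ⟨(MulEquiv.subgroupCongr hcl).symm.trans e⟩
  · -- order 6
    refine Or.inr (Or.inl ?_)
    have hQ1' : Nat.card Q = 1 := by have := Nat.card_pos (α := Q); omega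
    have hQbot : pCore 2 A = ⊥ := by
      rw [← hQsub, Subgroup.eq_bot_of_card_eq Q hQ1', Subgroup.bot_subgroupOf]
    exact ⟨((QuotientGroup.quotientMulEquivOfEq hQbot).trans QuotientGroup.quotientBot).symm.trans eq3⟩

end Cfsg.Agent.S4Amalgam.Suborbit
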